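import Mathlib.RingTheory.AdicCompletion.AsTensorProduct
import Mathlib.RingTheory.AdicCompletion.Noetherian
import Mathlib.RingTheory.Ideal.AssociatedPrime.Finiteness
import Mathlib.RingTheory.Ideal.KrullsHeightTheorem
import Mathlib.RingTheory.RegularLocalRing.Defs
import Mathlib.RingTheory.Flat.TorsionFree
import Mathlib.RingTheory.Nilpotent.Lemmas
import Mathlib.RingTheory.LocalRing.Quotient
import Mathlib.RingTheory.TensorProduct.Quotient
import Groth.Agent.Lib.CIPres.Completion

/-!
# Nilpotents in the completion of a Noetherian local domain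
-/

set_option linter.style.haveILetI false
universe u

open IsLocalRing TensorProduct

namespace GrothLib.RedCompl

variable {R : Type u} [CommRing R] [IsLocalRing R] [IsNoetherianRing R]

local notation "Rh" => AdicCompletion (maximalIdeal R) R

/-- Prime avoidance on the associated primes of `R/xR`. -/
theorem exists_avoid {x : R} {T : R → Prop} (hadd : ∀ a b, T a → T b → T (a + b)) (h0 : T 0)
    (hmul : ∀ a b, T b → T (a * b))
    (h : ∀ p ∈ associatedPrimes R (R ⧸ Ideal.span {x}), ∃ t, t ∉ p ∧ T t) :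
    ∃ t, (∀ p ∈ associatedPrimes R (R ⧸ Ideal.span {x}), t ∉ p) ∧ T t := by
  let J : Ideal R :=
    { carrier := {a | T a}, add_mem' := fun {a b} => hadd a b, zero_mem' := h0, smul_mem' := hmul }
  by_contra hc
  have hsub : (J : Set R) ⊆
      ⋃ p ∈ ((associatedPrimes.finite R (R ⧸ Ideal.span {x})).toFinset : Set (Ideal R)), (p : Set R) := by
    intro a ha
    by_contra hn
    refine hc ⟨a, fun p hp hap => hn (Set.mem_biUnion ?_ hap), ha⟩
    simpa using hp
  obtain ⟨p, hp, hle⟩ := (Ideal.subset_union_prime ⊥ ⊥ (fun q hq _ _ =>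
    ((associatedPrimes.finite R _).mem_toFinset.mp hq).1)).mp hsub
  obtain ⟨t, ht, hT⟩ := h p ((associatedPrimes.finite R _).mem_toFinset.mp hp)
  exact ht (hle hT)

/-- An element regular on `R/xR` is regular on `R̂/xR̂`. -/
theorem mem_span_of_mul_mem {x : R} (t : R) (ht : ∀ p ∈ associatedPrimes R (R ⧸ Ideal.span {x}), t ∉ p)
    (z : Rh) (h : algebraMap R Rh t * z ∈ Ideal.span {algebraMap R Rh x}) :
    z ∈ Ideal.span {algebraMap R Rh x} := by
  haveI : Module.Flat R Rh := AdicCompletion.flat_of_isNoetherian _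
  have hreg : IsSMulRegular (R ⧸ Ideal.span {x}) t := by
    by_contra hn
    have : t ∈ ⋃ p ∈ associatedPrimes R (R ⧸ Ideal.span {x}), (p : Set R) := by
      rw [biUnion_associatedPrimes_eq_compl_regular]; exact hn
    obtain ⟨p, hp, htp⟩ := Set.mem_iUnion₂.1 this
    exact ht p hp htp
  have h2 := hreg.lTensor Rh
  have hq : IsSMulRegular (Rh ⧸ (Ideal.span {x}).map (algebraMap R Rh)) t :=
    ((Algebra.TensorProduct.quotIdealMapEquivTensorQuot Rh (Ideal.span {x})).toLinearEquiv.restrictScalars R).isSMulRegular_congr t |>.2 h2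
  rw [Ideal.map_span, Set.image_singleton] at hq
  refine (isSMulRegular_quotient_iff_mem_of_smul_mem _ _).1 (show IsSMulRegular (Rh ⧸ (Ideal.span {algebraMap R Rh x}).restrictScalars R) t from hq) z ?_
  rw [Algebra.smul_def]
  exact h

theorem eq_zero_of_mul_eq_zero [IsDomain R] (a : R) (ha : a ≠ 0) (w : Rh) (h : algebraMap R Rh a * w = 0) :
    w = 0 := by
  haveI : Module.Flat R Rh := AdicCompletion.flat_of_isNoetherian _
  have hreg : IsSMulRegular Rh a :=
    Module.IsTorsionFree.isSMulRegular (isRegular_iff_mem_nonZeroDivisors.mpr (mem_nonZeroDivisors_of_ne_zero ha))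
  refine hreg ?_
  show a • w = a • (0 : Rh)
  rw [smul_zero, Algebra.smul_def, h]

/-- Nakayama for the nilradical. -/
theorem eq_bot_of_le_mul {x : R} {N : Ideal Rh} (hx : x ∈ maximalIdeal R)
    (h : N ≤ Ideal.span {algebraMap R Rh x} * N) : N = ⊥ := by
  haveI : IsNoetherianRing Rh := inferInstance
  haveI : IsLocalRing Rh := inferInstance
  refine Submodule.eq_bot_of_le_smul_of_le_jacobson_bot _ N (IsNoetherian.noetherian N) h ?_
  rw [Ideal.span_singleton_le_iff_mem]
  refine maximalIdeal_le_jacobson _ ?_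
  rw [mem_maximalIdeal, mem_nonunits_iff]
  intro hu
  have := hu.map (AdicCompletion.evalOneₐ (maximalIdeal R))
  rw [AlgHom.commutes, Ideal.Quotient.algebraMap_eq, Ideal.Quotient.eq_zero_iff_mem.2 hx] at this
  haveI : Nontrivial (R ⧸ maximalIdeal R) := Ideal.Quotient.nontrivial_iff.2 (maximalIdeal.isMaximal R).ne_top
  exact not_isUnit_zero (M₀ := R ⧸ maximalIdeal R) (by assumption)

theorem exists_uniformizer (x : R) (p : Ideal R) [p.IsPrime] (hp : p ∈ (Ideal.span {x}).minimalPrimes)
    (h : IsRegularLocalRing (Localization.AtPrime p)) :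
    ∃ π ∈ p, (∃ s, s ∉ p ∧ ∀ a ∈ p, s * a ∈ Ideal.span {π}) ∧
      ∃ (e : ℕ) (b : R), b ∉ p ∧ π ^ e * b ∈ Ideal.span {x} := by
  haveI := h
  let L := Localization.AtPrime p
  have hdim : ((maximalIdeal L).spanFinrank : WithBot ℕ∞) ≤ 1 := by
    rw [IsRegularLocalRing.spanFinrank_maximalIdeal (R := L), IsLocalization.AtPrime.ringKrullDim_eq_height p L]
    exact_mod_cast Ideal.height_le_one_of_isPrincipal_of_mem_minimalPrimes (Ideal.span {x}) p hp
  obtain ⟨gens, hcard, hspan⟩ :=
    Submodule.FG.exists_span_set_encard_eq_spanFinrank (maximalIdeal L).fg_of_isNoetherianRing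
  have hle : gens.encard ≤ 1 := by rw [hcard]; exact_mod_cast hdim
  obtain ⟨g, hg⟩ : ∃ g, maximalIdeal L = Ideal.span {g} := by
    rcases gens.eq_empty_or_nonempty with h0 | ⟨g, hg⟩
    · exact ⟨0, by rw [← hspan, h0]; simp⟩
    · obtain ⟨w, rfl⟩ := (Set.encard_le_one_iff_eq.1 hle).resolve_left (Set.nonempty_iff_ne_empty.1 ⟨g, hg⟩)
      exact ⟨w, hspan.symm⟩
  obtain ⟨⟨π, u⟩, hu⟩ := IsLocalization.surj p.primeCompl g
  have hgen : maximalIdeal L = Ideal.span {algebraMap R L π} := by
    rw [hg, ← hu, Ideal.span_singleton_mul_right_unit (IsLocalization.map_units L u)]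
  have hπ : π ∈ p := by
    rw [← Localization.AtPrime.under_maximalIdeal (I := p), Ideal.under_def, Ideal.mem_comap, hgen]
    exact Ideal.mem_span_singleton_self _
  refine ⟨π, hπ, ?_, ?_⟩
  · obtain ⟨F, hF⟩ := p.fg_of_isNoetherianRing
    have hF' : ∀ a ∈ F, ∃ s, s ∉ p ∧ s * a ∈ Ideal.span {π} := fun a ha => by
      have h1 : algebraMap R L a ∈ (Ideal.span {π}).map (algebraMap R L) := by
        rw [Ideal.map_span, Set.image_singleton, ← hgen, ← Ideal.mem_comap, ← Ideal.under_def,
          Localization.AtPrime.under_maximalIdeal (I := p)]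
        exact hF ▸ Submodule.subset_span ha
      obtain ⟨s, hs, hsa⟩ := (IsLocalization.algebraMap_mem_map_algebraMap_iff p.primeCompl L _ a).1 h1
      exact ⟨s, hs, hsa⟩
    choose s hs hsa using hF'
    refine ⟨∏ a ∈ F.attach, s a.1 a.2, fun hm => ?_, fun a ha => ?_⟩
    · obtain ⟨a, -, ha⟩ := (Ideal.IsPrime.prod_mem_iff (hp := ‹p.IsPrime›)).1 hm
      exact hs _ _ ha
    · have : p ≤ Submodule.comap (LinearMap.mulLeft R (∏ a ∈ F.attach, s a.1 a.2)) (Ideal.span {π}) := by
        conv_lhs => rw [← hF]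
        rw [Submodule.span_le]
        intro b hb
        obtain ⟨c, hc⟩ := Finset.dvd_prod_of_mem (fun a : F => s a.1 a.2) (Finset.mem_attach F ⟨b, hb⟩)
        show (∏ a ∈ F.attach, s a.1 a.2) * b ∈ Ideal.span {π}
        rw [hc, mul_right_comm]
        exact Ideal.mul_mem_right _ _ (hsa b hb)
      exact this ha
  · have h1 : algebraMap R L π ∈ ((Ideal.span {x}).map (algebraMap R L)).radical := by
      rw [Ideal.radical_eq_sInf, Submodule.mem_sInf]
      rintro q ⟨hq, hqP⟩
      have hle : Ideal.comap (algebraMap R L) q ≤ p := by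
        refine le_trans (Ideal.comap_mono (le_maximalIdeal hqP.ne_top)) ?_
        rw [← Ideal.under_def, Localization.AtPrime.under_maximalIdeal (I := p)]
      have hge : Ideal.span {x} ≤ Ideal.comap (algebraMap R L) q := Ideal.map_le_iff_le_comap.1 hq
      exact hp.2 ⟨Ideal.IsPrime.comap _, hge⟩ hle hπ
    obtain ⟨e, he⟩ := h1
    rw [← map_pow] at he
    obtain ⟨b, hb, hbx⟩ := (IsLocalization.algebraMap_mem_map_algebraMap_iff p.primeCompl L _ (π ^ e)).1 he
    exact ⟨e, b, hb, by rwa [mul_comm]⟩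

theorem mem_map_of_isNilpotent (p : Ideal R) [p.IsPrime]
    (hred : IsReduced (AdicCompletion ((maximalIdeal R).map (Ideal.Quotient.mk p)) (R ⧸ p)))
    (w : Rh) (hw : IsNilpotent w) : w ∈ p.map (algebraMap R Rh) := by
  haveI : IsLocalRing (R ⧸ p) := IsLocalRing.of_surjective' (Ideal.Quotient.mk p) Ideal.Quotient.mk_surjective
  have hmax : maximalIdeal (R ⧸ p) = (maximalIdeal R).map (Ideal.Quotient.mk p) :=
    (eq_maximalIdeal ((Ideal.map_eq_top_or_isMaximal_of_surjective _ Ideal.Quotient.mk_surjective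
      (maximalIdeal.isMaximal R)).resolve_left fun h => by
        have h1 := Ideal.comap_map_of_surjective (Ideal.Quotient.mk p) Ideal.Quotient.mk_surjective (maximalIdeal R)
        rw [h, Ideal.comap_top, ← RingHom.ker_eq_comap_bot, Ideal.mk_ker,
          sup_eq_left.2 (le_maximalIdeal (Ideal.IsPrime.ne_top inferInstance))] at h1
        exact (maximalIdeal.isMaximal R).ne_top h1.symm)).symm
  obtain ⟨e⟩ := GrothLib.CIPres.nonempty_completion_quotient p
  haveI : IsReduced (AdicCompletion (maximalIdeal (R ⧸ p)) (R ⧸ p)) := by rw [hmax]; exact hred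
  rw [← Ideal.Quotient.eq_zero_iff_mem]
  apply e.symm.injective
  rw [map_zero]
  exact ((hw.map (Ideal.Quotient.mk _)).map e.symm).eq_zero

theorem exists_mul_mem_span [IsDomain R] (x : R) (hx : x ≠ 0) (p : Ideal R) [p.IsPrime]
    (hp : p ∈ (Ideal.span {x}).minimalPrimes) (h : IsRegularLocalRing (Localization.AtPrime p))
    (hred : IsReduced (AdicCompletion ((maximalIdeal R).map (Ideal.Quotient.mk p)) (R ⧸ p)))
    (z : Rh) (hz : z ∈ nilradical Rh) :
    ∃ t, t ∉ p ∧ algebraMap R Rh t * z ∈ Ideal.span {algebraMap R Rh x} := by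
  obtain ⟨π, hπp, ⟨s, hs, hsπ⟩, e, b, hb, hbx⟩ := exists_uniformizer x p hp h
  have hπ0 : π ≠ 0 := by
    rintro rfl
    have h1 : s * x ∈ Ideal.span {(0 : R)} := hsπ x (hp.1.2 (Ideal.mem_span_singleton_self x))
    rw [Ideal.span_singleton_zero, Ideal.mem_bot, mul_eq_zero] at h1
    exact h1.elim (fun h0 => hs (h0 ▸ p.zero_mem)) hx
  have key : ∀ j : ℕ, ∃ t, t ∉ p ∧ ∃ w, algebraMap R Rh t * z = algebraMap R Rh π ^ j * w := by
    intro j
    induction j with
    | zero => exact ⟨1, fun h1 => (Ideal.IsPrime.ne_top (I := p) inferInstance) ((Ideal.eq_top_iff_one _).2 h1), z, by simp⟩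
    | succ j ih =>
      obtain ⟨t, ht, w, hw⟩ := ih
      have hwn : IsNilpotent w := by
        obtain ⟨N, hN⟩ : IsNilpotent (algebraMap R Rh t * z) :=
          mem_nilradical.1 (Ideal.mul_mem_left _ _ hz)
        rw [hw, mul_pow, ← map_pow, ← map_pow] at hN
        exact ⟨N, eq_zero_of_mul_eq_zero _ (pow_ne_zero _ (pow_ne_zero _ hπ0)) _ hN⟩
      have hwp := mem_map_of_isNilpotent p hred w hwn
      have hle : p.map (algebraMap R Rh) ≤
          Submodule.comap (LinearMap.mulLeft Rh (algebraMap R Rh s)) (Ideal.span {algebraMap R Rh π}) := by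
        refine Ideal.map_le_iff_le_comap.2 fun a ha => ?_
        show algebraMap R Rh s * algebraMap R Rh a ∈ Ideal.span {algebraMap R Rh π}
        obtain ⟨c, hc⟩ := Ideal.mem_span_singleton'.1 (hsπ a ha)
        rw [← map_mul, ← hc, map_mul]
        exact Ideal.mul_mem_left _ _ (Ideal.mem_span_singleton_self _)
      obtain ⟨w', hw'⟩ := Ideal.mem_span_singleton'.1 (hle hwp)
      refine ⟨s * t, fun h1 => ((Ideal.IsPrime.mem_or_mem inferInstance h1).elim hs ht), w', ?_⟩
      change w' * _ = algebraMap R Rh s * w at hw'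
      rw [map_mul, mul_assoc, hw, mul_left_comm, ← hw', pow_succ]
      ring
  obtain ⟨t, ht, w, hw⟩ := key e
  refine ⟨b * t, fun h1 => ((Ideal.IsPrime.mem_or_mem inferInstance h1).elim hb ht), ?_⟩
  obtain ⟨c, hc⟩ := Ideal.mem_span_singleton'.1 hbx
  rw [map_mul, mul_assoc, hw, ← mul_assoc, mul_comm (algebraMap R Rh b), ← map_pow, ← map_mul, ← hc, map_mul]
  exact Ideal.mul_mem_right _ _ (Ideal.mul_mem_left _ _ (Ideal.mem_span_singleton_self _))

end GrothLib.RedCompl
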